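import Mathlib
import Cfsg.Agent.Lib.SmallCen.SmallOrder
import Cfsg.Agent.Lib.Basic.SmallSimple
import Cfsg.Agent.Lib.Perm.SylowIn
import Cfsg.Agent.S0985

/-!
# Tools for eliminating orders of simple groups: cycle types of coset actions

`x` of prime order `p` acts on the cosets of a proper subgroup `H` with `b` cycles of length `p`; the
centralizer of `x` embeds in the centralizer of a permutation of that type.
-/

set_option autoImplicit false
set_option linter.unusedSectionVars false

namespace Cfsg.Agent.Lib.SmallOrd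

open MulAction Subgroup Cfsg.Agent.Lib.SmallCen.SmallOrder

universe u

variable {G : Type u} [Group G] [Finite G]

/-- The image of an element in the action on cosets of a proper subgroup of a simple group. -/
noncomputable abbrev act (H : Subgroup G) : G →* Equiv.Perm (G ⧸ H) := MulAction.toPermHom G (G ⧸ H)

theorem orderOf_act [IsSimpleGroup G] (H : Subgroup G) (hH : H ≠ ⊤) (x : G) :
    orderOf (act H x) = orderOf x :=
  orderOf_injective _ (toPermHom_injective H hH) x

/-- An element fixes a coset of `H` only if it is conjugate into `H`. -/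
theorem exists_conj_mem_of_fixed (H : Subgroup G) (x : G) (c : G ⧸ H) (hc : act H x c = c) :
    ∃ g : G, g⁻¹ * x * g ∈ H := by
  induction c using QuotientGroup.induction_on with
  | H g =>
    refine ⟨g, ?_⟩
    have h1 : (x • ((g : G) : G ⧸ H)) = ((g : G) : G ⧸ H) := hc
    rw [MulAction.Quotient.smul_mk] at h1
    have h2 := QuotientGroup.eq.mp h1.symm
    simpa [mul_assoc] using h2

/-- A `p`-element, `p` not dividing `|H|`, has no fixed point on `G/H`. -/
theorem no_fixed_of_not_dvd {p : ℕ} (H : Subgroup G) (x : G) (hx : orderOf x = p)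
    (hpH : ¬ p ∣ Nat.card H) (c : G ⧸ H) : act H x c ≠ c := by
  intro hc
  obtain ⟨g, hg⟩ := exists_conj_mem_of_fixed H x c hc
  apply hpH
  have h1 : orderOf (⟨g⁻¹ * x * g, hg⟩ : H) ∣ Nat.card H := orderOf_dvd_natCard _
  rw [Subgroup.orderOf_mk] at h1
  have h2 : orderOf (g⁻¹ * x * g) = orderOf x := by
    have h3 : g⁻¹ * x * g = g⁻¹ * x * g⁻¹⁻¹ := by simp
    rw [h3, ← MulAut.conj_apply, MulEquiv.orderOf_eq]
  rwa [h2, hx] at h1

/-- Cycle data for an element of prime order acting on cosets. -/
theorem exists_cycle_data [IsSimpleGroup G] {p : ℕ} (hp : p.Prime) (H : Subgroup G) (hH : H ≠ ⊤) (x : G)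
    (hx : orderOf x = p) :
    ∃ b : ℕ, 1 ≤ b ∧ b * p ≤ H.index ∧ (¬ p ∣ Nat.card H → b * p = H.index) ∧
      ∀ C : Subgroup G, C ≤ centralizer {x} →
        Nat.card C ∣ (H.index - b * p).factorial * p ^ b * b.factorial := by
  classical
  haveI : Fintype (G ⧸ H) := Fintype.ofFinite _
  set σ := act H x with hσ
  have hord : orderOf σ = p := by rw [hσ, orderOf_act H hH, hx]
  obtain ⟨n, hn⟩ := Equiv.Perm.cycleType_prime_order (σ := σ) (hord ▸ hp)
  rw [hord] at hn
  have hidx : Fintype.card (G ⧸ H) = H.index := by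
    rw [Subgroup.index, Nat.card_eq_fintype_card]
  have hsum : σ.cycleType.sum = (n + 1) * p := by
    rw [hn, Multiset.sum_replicate, smul_eq_mul]
  refine ⟨n + 1, by omega, ?_, ?_, ?_⟩
  · rw [← hsum, ← hidx]
    exact Equiv.Perm.sum_cycleType_le σ
  · intro hpH
    rw [← hsum, Equiv.Perm.sum_cycleType, ← hidx]
    congr 1
    ext c
    simp only [Equiv.Perm.mem_support, Finset.mem_univ, iff_true]
    exact no_fixed_of_not_dvd H x hx hpH c
  · intro C hC
    have hinj : Function.Injective (act H) := toPermHom_injective H hH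
    have hle : C.map (act H) ≤ centralizer {σ} := by
      rintro _ ⟨c, hc, rfl⟩
      rw [Subgroup.mem_centralizer_singleton_iff]
      have h1 : c * x = x * c := by
        have := hC hc
        rw [Subgroup.mem_centralizer_singleton_iff] at this
        exact this
      rw [hσ, ← map_mul, ← map_mul, h1]
    have h2 : Nat.card (C.map (act H)) = Nat.card C := Subgroup.card_map_of_injective hinj
    rw [← h2]
    refine (Subgroup.card_dvd_of_le hle).trans ?_
    rw [Equiv.Perm.nat_card_centralizer, hsum, hidx, hn, Multiset.prod_replicate]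
    have : (Multiset.replicate (n + 1) p).toFinset = {p} := by
      ext a
      rw [Multiset.mem_toFinset, Multiset.mem_replicate, Finset.mem_singleton]
      exact ⟨fun h => h.2, fun h => ⟨by omega, h⟩⟩
    rw [this, Finset.prod_singleton, Multiset.count_replicate_self]

/-- In a simple group of order more than `2`, every permutation of a coset action is even. -/
theorem sign_act_eq_one [IsSimpleGroup G] (h2 : 2 < Nat.card G) (H : Subgroup G) [Fintype (G ⧸ H)]
    [DecidableEq (G ⧸ H)] (x : G) : Equiv.Perm.sign (act H x) = 1 := by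
  set f : G →* ℤˣ := (Equiv.Perm.sign : Equiv.Perm (G ⧸ H) →* ℤˣ).comp (act H) with hf
  rcases (inferInstance : f.ker.Normal).eq_bot_or_eq_top with h | h
  · exfalso
    have hinj := (MonoidHom.ker_eq_bot_iff f).1 h
    have := Nat.card_le_card_of_injective f hinj
    have h3 : Nat.card ℤˣ = 2 := by simp [Nat.card_eq_fintype_card]
    omega
  · have : x ∈ f.ker := by rw [h]; trivial
    exact this

variable [IsSimpleGroup G]

/-- Number of Sylow subgroups and the order of the normalizer. -/
theorem card_normalizer_mul {p : ℕ} [Fact p.Prime] (P : Sylow p G) :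
    Nat.card (normalizer ((P : Subgroup G) : Set G)) * Nat.card (Sylow p G) = Nat.card G := by
  rw [P.card_eq_index_normalizer]
  exact Subgroup.card_mul_index _

/-- `|N_G(P) : C_G(P)|` divides `|Aut P|`. -/
theorem relIndex_centralizer_dvd (P : Subgroup G) :
    (centralizer (P : Set G)).relIndex (normalizer (P : Set G)) ∣ Nat.card (MulAut P) := by
  have key := Subgroup.card_dvd_of_injective _ (QuotientGroup.kerLift_injective P.normalizerMonoidHom)
  rw [Subgroup.normalizerMonoidHom_ker, ← Subgroup.index, ← Subgroup.relIndex] at key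
  exact key

/-- For `P` of prime order `p`: `|N_G(P)| = |C_G(P)| * e` with `e ∣ p - 1`. -/
theorem exists_card_normalizer_eq {p : ℕ} (hp : p.Prime) (P : Subgroup G) (hP : Nat.card P = p) :
    ∃ e, e ∣ p - 1 ∧ Nat.card (normalizer (P : Set G)) = Nat.card (centralizer (P : Set G)) * e := by
  haveI : Fact p.Prime := ⟨hp⟩
  have hcyc : IsCyclic P := isCyclic_of_prime_card (p := p) hP
  have h6 : Nat.card (MulAut P) = p - 1 := by
    rw [IsCyclic.card_mulAut, hP, Nat.totient_prime hp]
  refine ⟨_, h6 ▸ relIndex_centralizer_dvd P, ?_⟩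
  have hle : centralizer (P : Set G) ≤ normalizer (P : Set G) := Subgroup.centralizer_le_normalizer _
  exact (Cfsg.Agent.Lib.Perm.SylowIn.card_mul_relIndex hle).symm

omit [IsSimpleGroup G] in
/-- If `D ≤ S`, `S` a `p`-group and `|S : D| = p` then `S` normalizes `D`. -/
theorem le_normalizer_of_index_prime {p : ℕ} (hp : p.Prime) {D S : Subgroup G} (hDS : D ≤ S)
    (hS : IsPGroup p S) (hidx : D.relIndex S = p) : S ≤ normalizer (D : Set G) := by
  have h1 : (D.subgroupOf S).index = p := hidx
  haveI : Finite S := inferInstance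
  have hne : Nat.card S ≠ 1 := by
    intro h
    have h2 := Subgroup.index_dvd_card (D.subgroupOf S)
    rw [h1, h] at h2
    exact hp.one_lt.ne' (Nat.dvd_one.1 h2)
  haveI : Fact p.Prime := ⟨hp⟩
  have hmin : (D.subgroupOf S).index = (Nat.card S).minFac := by
    obtain ⟨k, hk⟩ := hS.exists_card_eq
    have hk0 : k ≠ 0 := by
      rintro rfl
      exact hne (by simpa using hk)
    rw [h1, hk, Nat.Prime.pow_minFac hp hk0]
  haveI : (D.subgroupOf S).Normal := Subgroup.normal_of_index_eq_minFac_card hmin
  exact Subgroup.le_normalizer_of_normal_subgroupOf hDS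

omit [IsSimpleGroup G] in
/-- Two Sylow subgroups meeting in a subgroup of index `p`. -/
theorem exists_sylow_pair_of_not_modEq {p : ℕ} [hp : Fact p.Prime]
    (hne : ¬ Nat.card (Sylow p G) ≡ 1 [MOD p ^ 2]) :
    ∃ S R : Sylow p G, S ≠ R ∧ Nat.card ((S : Subgroup G) ⊓ (R : Subgroup G) : Subgroup G) * p =
      Nat.card (S : Subgroup G) ∧
      (S : Subgroup G) ≤ normalizer (((S : Subgroup G) ⊓ (R : Subgroup G) : Subgroup G) : Set G) ∧
      (R : Subgroup G) ≤ normalizer (((S : Subgroup G) ⊓ (R : Subgroup G) : Subgroup G) : Set G) := by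
  obtain ⟨S, R, hSR, hidx⟩ := Cfsg.Agent.S0985.result (G := G) p 2 hne
  refine ⟨S, R, hSR, ?_⟩
  set D : Subgroup G := (S : Subgroup G) ⊓ (R : Subgroup G) with hD
  have hrel : D.relIndex (S : Subgroup G) = ((R : Subgroup G).subgroupOf (S : Subgroup G)).index := by
    rw [hD, Subgroup.inf_relIndex_left, Subgroup.relIndex]
  have hcardS := Cfsg.Agent.Lib.Perm.SylowIn.card_mul_relIndex (inf_le_left : D ≤ (S : Subgroup G))
  have hcardR := Cfsg.Agent.Lib.Perm.SylowIn.card_mul_relIndex (inf_le_right : D ≤ (R : Subgroup G))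
  have hSRc : Nat.card (S : Subgroup G) = Nat.card (R : Subgroup G) :=
    S.card_eq_multiplicity.trans R.card_eq_multiplicity.symm
  have hle : D.relIndex (S : Subgroup G) ≤ p := by
    rw [hrel]
    simpa using hidx
  have hne1 : D.relIndex (S : Subgroup G) ≠ 1 := by
    intro h1
    apply hSR
    rw [h1, mul_one] at hcardS
    have h2 : D = (S : Subgroup G) := Subgroup.eq_of_le_of_card_ge inf_le_left hcardS.symm.le
    have h3 : D = (R : Subgroup G) :=
      Subgroup.eq_of_le_of_card_ge inf_le_right (by rw [← hSRc, hcardS])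
    apply Sylow.ext
    rw [← h2, ← h3]
  have hdvd : D.relIndex (S : Subgroup G) ∣ Nat.card (S : Subgroup G) := Subgroup.relIndex_dvd_card _ _
  obtain ⟨k, hk⟩ := S.2.exists_card_eq
  have hpp : p.Prime := hp.out
  have hrp : D.relIndex (S : Subgroup G) = p := by
    rw [hk] at hdvd
    obtain ⟨j, hj, hj2⟩ := (Nat.dvd_prime_pow hpp).1 hdvd
    rcases j with _ | j
    · rw [pow_zero] at hj2
      exact absurd hj2 hne1
    · rw [hj2] at hle ⊢
      rw [pow_succ] at hle ⊢
      have hpos : 0 < p ^ j := pow_pos hpp.pos j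
      have : p ^ j = 1 := by
        by_contra hc
        have : 2 ≤ p ^ j := by omega
        nlinarith [hpp.pos]
      rw [this, one_mul]
  have hrq : D.relIndex (R : Subgroup G) = p := by
    have h1 : Nat.card D * D.relIndex (R : Subgroup G) = Nat.card D * p := by
      rw [hcardR, ← hSRc, ← hcardS, hrp]
    exact Nat.eq_of_mul_eq_mul_left Nat.card_pos h1
  refine ⟨?_, le_normalizer_of_index_prime hpp inf_le_left S.2 hrp,
    le_normalizer_of_index_prime hpp inf_le_right R.2 hrq⟩
  rw [← hcardS, hrp]

end Cfsg.Agent.Lib.SmallOrd
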