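import Mathlib
import Cfsg.Agent.Lib.SmallOrd.Basic

/-!
# Conjugation on a class: parity and fixed point congruences

In a simple group of order more than two every permutation action is even.  For an involution `w`
acting by conjugation on a conjugation invariant set `S`, the number of elements of `S` commuting with
`w` is therefore congruent to `#S` modulo `4`.  For `x` of prime order `p` the number of elements of an
`x`-invariant set commuting with `x` is congruent to the size of the set modulo `p`.
-/

set_option autoImplicit false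
set_option linter.unusedSectionVars false

namespace Cfsg.Agent.Lib.SmallOrd.ClassSign

open Equiv Equiv.Perm
open scoped Pointwise

universe u

/-- An even involution moves a multiple of four points. -/
theorem four_dvd_card_support {α : Type*} [Fintype α] [DecidableEq α] (σ : Perm α) (h : σ * σ = 1)
    (hs : sign σ = 1) : 4 ∣ σ.support.card := by
  by_cases h1 : σ = 1
  · subst h1
    simp
  have h2 : orderOf σ = 2 := orderOf_eq_prime (by rw [pow_two]; exact h) h1
  obtain ⟨n, hn⟩ := cycleType_prime_order (σ := σ) (h2 ▸ Nat.prime_two)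
  rw [h2] at hn
  have hsum : σ.cycleType.sum = 2 * (n + 1) := by
    rw [hn, Multiset.sum_replicate, smul_eq_mul]
    ring
  have hcard : Multiset.card σ.cycleType = n + 1 := by
    rw [hn, Multiset.card_replicate]
  have hsign := sign_of_cycleType σ
  rw [hsum, hcard, hs] at hsign
  have heven : Even (2 * (n + 1) + (n + 1)) := by
    by_contra hodd
    rw [Nat.not_even_iff_odd] at hodd
    rw [hodd.neg_one_pow] at hsign
    exact absurd hsign (by decide)
  rw [← sum_cycleType, hsum]
  obtain ⟨c, hc⟩ := heven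
  omega

/-- Any homomorphism of a simple group of order more than two to the sign group is trivial. -/
theorem map_eq_one_of_units {G : Type*} [Group G] [Finite G] [IsSimpleGroup G] (h2 : 2 < Nat.card G)
    (f : G →* ℤˣ) (g : G) : f g = 1 := by
  rcases (inferInstance : f.ker.Normal).eq_bot_or_eq_top with h | h
  · exfalso
    have hinj := (MonoidHom.ker_eq_bot_iff f).1 h
    have := Nat.card_le_card_of_injective f hinj
    have h3 : Nat.card ℤˣ = 2 := by simp [Nat.card_eq_fintype_card]
    omega
  · have : g ∈ f.ker := by rw [h]; trivial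
    exact this

section Finset

variable {G : Type*} [Group G]

/-- Conjugation on a conjugation invariant finite set. -/
def conjOn [DecidableEq G] (S : Finset G) (hS : ∀ g : G, ∀ v ∈ S, g * v * g⁻¹ ∈ S) : G →* Perm ↥S where
  toFun g :=
    { toFun := fun v => ⟨g * v.1 * g⁻¹, hS g v.1 v.2⟩
      invFun := fun v => ⟨g⁻¹ * v.1 * g, by simpa using hS g⁻¹ v.1 v.2⟩
      left_inv := fun v => by
        apply Subtype.ext
        simp [mul_assoc]
      right_inv := fun v => by
        apply Subtype.ext
        simp [mul_assoc] }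
  map_one' := by
    ext v
    simp
  map_mul' a b := by
    ext v
    simp [mul_assoc]

@[simp] theorem conjOn_apply [DecidableEq G] (S : Finset G) (hS : ∀ g : G, ∀ v ∈ S, g * v * g⁻¹ ∈ S)
    (g : G) (v : ↥S) : ((conjOn S hS g v : ↥S) : G) = g * v.1 * g⁻¹ := rfl

/-- The parity congruence. -/
theorem card_comm_modEq_four [Finite G] [IsSimpleGroup G] [DecidableEq G] (h2 : 2 < Nat.card G)
    (S : Finset G) (hS : ∀ g : G, ∀ v ∈ S, g * v * g⁻¹ ∈ S) (w : G) (hw : w * w = 1) :
    (S.filter fun v => w * v = v * w).card % 4 = S.card % 4 := by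
  classical
  set σ := conjOn S hS w with hσ
  have hσ2 : σ * σ = 1 := by
    rw [hσ, ← map_mul, hw, map_one]
  have hsign : sign σ = 1 := by
    have := map_eq_one_of_units h2 ((sign : Perm ↥S →* ℤˣ).comp (conjOn S hS)) w
    simpa using this
  have h4 := four_dvd_card_support σ hσ2 hsign
  have hinv : w⁻¹ = w := inv_eq_of_mul_eq_one_left hw
  have hsupp : σ.support.card = (S.filter fun v => ¬ (w * v = v * w)).card := by
    rw [← Finset.card_map (Function.Embedding.subtype _)]
    congr 1
    ext v
    simp only [Finset.mem_map, Perm.mem_support, Function.Embedding.subtype_apply, Finset.mem_filter]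
    constructor
    · rintro ⟨a, ha, rfl⟩
      refine ⟨a.2, fun hc => ha ?_⟩
      apply Subtype.ext
      rw [hσ, conjOn_apply, hc, mul_assoc, hinv, hw, mul_one]
    · rintro ⟨hv, hc⟩
      refine ⟨⟨v, hv⟩, fun ha => hc ?_, rfl⟩
      have := congrArg Subtype.val ha
      rw [hσ, conjOn_apply, hinv] at this
      simp only at this
      calc w * v = w * v * w * w := by rw [mul_assoc (w * v), hw, mul_one]
        _ = v * w := by rw [this]
  have hsum := Finset.card_filter_add_card_filter_not (s := S) (fun v => w * v = v * w)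
  omega

end Finset

/-- Fixed point congruence for a self-map of prime power order on an invariant finite set. -/
theorem card_modEq_fixed {α : Type*} [DecidableEq α] (S : Finset α) (f : α → α)
    (hS : ∀ a ∈ S, f a ∈ S) {p : ℕ} (hp : p.Prime) (hf : ∀ a ∈ S, f^[p] a = a) :
    S.card % p = (S.filter fun a => f a = a).card % p := by
  classical
  haveI : Fact p.Prime := ⟨hp⟩
  let g : Function.End ↥S := fun a => ⟨f a.1, hS a.1 a.2⟩
  have hit : ∀ (n : ℕ) (a : ↥S), ((g ^ n) a : ↥S).1 = f^[n] a.1 := by
    intro n a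
    induction n with
    | zero => rfl
    | succ n ih =>
      rw [pow_succ', Function.iterate_succ_apply']
      change f ((g ^ n) a).1 = _
      rw [ih]
  have hg : g ^ p ^ 1 = 1 := by
    funext a
    apply Subtype.ext
    rw [pow_one, hit]
    exact hf a.1 a.2
  have h1 := Equiv.Perm.card_fixedPoints_modEq (f := g) (p := p) (n := 1) hg
  have h2 : Fintype.card ↥S = S.card := Fintype.card_coe S
  have h3 : Fintype.card (Function.fixedPoints g) = (S.filter fun a => f a = a).card := by
    rw [← Fintype.card_coe (S.filter fun a => f a = a)]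
    refine Fintype.card_congr ⟨fun a => ⟨a.1.1, Finset.mem_filter.mpr ⟨a.1.2, ?_⟩⟩,
      fun a => ⟨⟨a.1, (Finset.mem_filter.mp a.2).1⟩, ?_⟩, ?_, ?_⟩
    · exact congrArg Subtype.val a.2
    · apply Subtype.ext
      exact (Finset.mem_filter.mp a.2).2
    · intro a
      rfl
    · intro a
      rfl
  rw [h2, h3] at h1
  exact h1

/-- The number of involutions of a group of even order is odd. -/
theorem odd_card_involutions {G : Type*} [Group G] [Fintype G] [DecidableEq G] (C : Finset G)
    (hC : ∀ c ∈ C, c⁻¹ ∈ C) (h1 : (1 : G) ∈ C) (h2 : Even C.card) :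
    Odd (C.filter fun c => c * c = 1 ∧ c ≠ 1).card := by
  have h := card_modEq_fixed C (fun c => c⁻¹) hC Nat.prime_two (fun a _ => by simp)
  have h3 : (C.filter fun a => a⁻¹ = a) = insert 1 (C.filter fun c => c * c = 1 ∧ c ≠ 1) := by
    ext c
    simp only [Finset.mem_filter, Finset.mem_insert]
    constructor
    · rintro ⟨hc, hc2⟩
      by_cases hc1 : c = 1
      · exact Or.inl hc1
      · refine Or.inr ⟨hc, ?_, hc1⟩
        have := mul_inv_cancel c
        rwa [hc2] at this
    · rintro (rfl | ⟨hc, hc2, -⟩)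
      · simp [h1]
      · exact ⟨hc, inv_eq_of_mul_eq_one_left hc2⟩
  rw [h3, Finset.card_insert_of_notMem (by simp)] at h
  obtain ⟨k, hk⟩ := h2
  rw [Nat.odd_iff]
  omega

/-- A `2`-group acting on an odd set by conjugation has a fixed point. -/
theorem exists_comm_of_odd {G : Type*} [Group G] [Finite G] [DecidableEq G] {p : ℕ} [Fact p.Prime]
    (T : Subgroup G) (hT : IsPGroup p T) (A : Finset G)
    (hA : ∀ s ∈ T, ∀ a ∈ A, s * a * s⁻¹ ∈ A) (hodd : ¬ p ∣ A.card) :
    ∃ a ∈ A, ∀ s ∈ T, s * a = a * s := by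
  classical
  letI : MulAction ↥T ↥A :=
    { smul := fun s a => ⟨s.1 * a.1 * s.1⁻¹, hA s.1 s.2 a.1 a.2⟩
      one_smul := fun a => by
        apply Subtype.ext
        change (1 : G) * a.1 * (1 : G)⁻¹ = a.1
        simp
      mul_smul := fun s t a => by
        apply Subtype.ext
        change (s.1 * t.1) * a.1 * (s.1 * t.1)⁻¹ = s.1 * (t.1 * a.1 * t.1⁻¹) * s.1⁻¹
        simp [mul_assoc] }
  have hcard : Nat.card ↥A = A.card := by
    rw [Nat.card_eq_fintype_card, Fintype.card_coe]
  obtain ⟨a, ha⟩ := hT.nonempty_fixed_point_of_prime_not_dvd_card ↥A (by rwa [hcard])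
  refine ⟨a.1, a.2, fun s hs => ?_⟩
  have h1 := congrArg Subtype.val (ha ⟨s, hs⟩)
  change s * a.1 * s⁻¹ = a.1 at h1
  calc s * a.1 = s * a.1 * s⁻¹ * s := by group
    _ = a.1 * s := by rw [h1]

/-- Two subgroups of a subgroup `H` of the order of its Sylow subgroups are conjugate in `H`. -/
theorem exists_conj_of_card {G : Type*} [Group G] [Finite G] {p : ℕ} [Fact p.Prime]
    {H A B : Subgroup G} (hA : A ≤ H) (hB : B ≤ H) {a m : ℕ} (hAc : Nat.card A = p ^ a)
    (hBc : Nat.card B = p ^ a) (hH : Nat.card H = p ^ a * m) (hm : ¬ p ∣ m) :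
    ∃ c ∈ H, ∀ y ∈ A, c * y * c⁻¹ ∈ B := by
  have hm0 : m ≠ 0 := by
    rintro rfl
    exact hm (dvd_zero p)
  have hfac : (Nat.card H).factorization p = a := by
    rw [hH, Nat.factorization_mul (pow_ne_zero _ (Fact.out : p.Prime).ne_zero) hm0,
      Finsupp.add_apply, Nat.Prime.factorization_pow (Fact.out : p.Prime), Finsupp.single_eq_same,
      Nat.factorization_eq_zero_of_not_dvd hm, add_zero]
  have cA : Nat.card (A.subgroupOf H) = p ^ (Nat.card H).factorization p := by
    rw [hfac, ← hAc]
    exact Nat.card_congr (Subgroup.subgroupOfEquivOfLe hA).toEquiv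
  have cB : Nat.card (B.subgroupOf H) = p ^ (Nat.card H).factorization p := by
    rw [hfac, ← hBc]
    exact Nat.card_congr (Subgroup.subgroupOfEquivOfLe hB).toEquiv
  let SA : Sylow p ↥H := Sylow.ofCard (A.subgroupOf H) cA
  let SB : Sylow p ↥H := Sylow.ofCard (B.subgroupOf H) cB
  obtain ⟨c, hc⟩ := MulAction.exists_smul_eq ↥H SA SB
  refine ⟨c.1, c.2, fun y hy => ?_⟩
  have hy' : (⟨y, hA hy⟩ : ↥H) ∈ (SA : Subgroup ↥H) := by
    change (⟨y, hA hy⟩ : ↥H) ∈ A.subgroupOf H
    rw [Subgroup.mem_subgroupOf]
    exact hy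
  have h1 : MulAut.conj c (⟨y, hA hy⟩ : ↥H) ∈ ((c • SA : Sylow p ↥H) : Subgroup ↥H) := by
    change MulAut.conj c (⟨y, hA hy⟩ : ↥H) ∈ MulAut.conj c • (SA : Subgroup ↥H)
    exact Subgroup.smul_mem_pointwise_smul _ _ _ hy'
  rw [hc] at h1
  have h2 : MulAut.conj c (⟨y, hA hy⟩ : ↥H) ∈ B.subgroupOf H := h1
  rw [Subgroup.mem_subgroupOf] at h2
  exact h2

/-- `|M : N_G(P)| ≡ 1` modulo `p` for `N_G(P) ≤ M`. -/
theorem exists_card_eq_normalizer_mul {G : Type*} [Group G] [Finite G] {p : ℕ} [Fact p.Prime]
    (P : Sylow p G) (M : Subgroup G) (hM : Subgroup.normalizer ((P : Subgroup G) : Set G) ≤ M) :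
    ∃ k, Nat.card M = Nat.card (Subgroup.normalizer ((P : Subgroup G) : Set G)) * k ∧ k % p = 1 := by
  have hPM : (P : Subgroup G) ≤ M := (Subgroup.le_normalizer).trans hM
  let Q : Sylow p ↥M := P.subtype hPM
  have hQ : ((Q : Subgroup ↥M) : Set ↥M) = (((P : Subgroup G).subgroupOf M : Subgroup ↥M) : Set ↥M) := by
    rw [Sylow.coe_subtype]
  have h1 : Nat.card (Sylow p ↥M) = (Subgroup.normalizer ((Q : Subgroup ↥M) : Set ↥M)).index :=
    Q.card_eq_index_normalizer
  have h2 := card_sylow_modEq_one p ↥M
  have h3 : Subgroup.normalizer ((Q : Subgroup ↥M) : Set ↥M) =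
      (Subgroup.normalizer ((P : Subgroup G) : Set G)).subgroupOf M := by
    rw [hQ]
    exact (Subgroup.subgroupOf_normalizer_eq hPM).symm
  have h4 : Nat.card (Subgroup.normalizer ((Q : Subgroup ↥M) : Set ↥M)) =
      Nat.card (Subgroup.normalizer ((P : Subgroup G) : Set G)) := by
    rw [h3]
    exact Nat.card_congr (Subgroup.subgroupOfEquivOfLe hM).toEquiv
  refine ⟨Nat.card (Sylow p ↥M), ?_, ?_⟩
  · rw [← h4, h1, Subgroup.card_mul_index]
  · have hp2 : 1 < p := (Fact.out : p.Prime).one_lt
    have h5 : Nat.card (Sylow p ↥M) % p = 1 % p := h2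
    rwa [Nat.mod_eq_of_lt hp2] at h5

/-- An element of `N_G(P)` of order `p` lies in the Sylow subgroup `P`. -/
theorem mem_of_mem_normalizer {G : Type*} [Group G] [Finite G] {p : ℕ} [Fact p.Prime]
    (P : Sylow p G) (y : G) (hy : y ∈ Subgroup.normalizer ((P : Subgroup G) : Set G))
    (hyo : orderOf y = p) : y ∈ (P : Subgroup G) := by
  have hQ : IsPGroup p (Subgroup.zpowers y) :=
    IsPGroup.of_card (n := 1) (by rw [Nat.card_zpowers, hyo, pow_one])
  have h := hQ.inf_normalizer_sylow P
  have h1 : y ∈ Subgroup.zpowers y ⊓ Subgroup.normalizer (P : Set G) :=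
    ⟨Subgroup.mem_zpowers y, hy⟩
  rw [h] at h1
  exact h1.2

/-- A conjugate of a generator of a Sylow subgroup of prime order which normalizes the
Sylow subgroup is a conjugate by a normalizing element. -/
theorem mem_normalizer_of_conj_mem {G : Type*} [Group G] [Finite G] {p : ℕ} [Fact p.Prime]
    (P : Sylow p G) (hP : Nat.card (P : Subgroup G) = p) (x : G) (hxP : x ∈ (P : Subgroup G))
    (hx : orderOf x = p) (g : G)
    (hg : g⁻¹ * x * g ∈ Subgroup.normalizer ((P : Subgroup G) : Set G)) :
    g ∈ Subgroup.normalizer ((P : Subgroup G) : Set G) := by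
  have hyo : orderOf (g⁻¹ * x * g) = p := by
    have h3 : g⁻¹ * x * g = g⁻¹ * x * g⁻¹⁻¹ := by simp
    rw [h3, ← MulAut.conj_apply, MulEquiv.orderOf_eq, hx]
  have hyP := mem_of_mem_normalizer P _ hg hyo
  have hzx : Subgroup.zpowers x = (P : Subgroup G) := by
    apply Subgroup.eq_of_le_of_card_ge
    · exact (Subgroup.zpowers_le).2 hxP
    · rw [Nat.card_zpowers, hx, hP]
  have hzy : Subgroup.zpowers (g⁻¹ * x * g) = (P : Subgroup G) := by
    apply Subgroup.eq_of_le_of_card_ge
    · exact (Subgroup.zpowers_le).2 hyP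
    · rw [Nat.card_zpowers, hyo, hP]
  rw [Subgroup.mem_normalizer_iff]
  intro h
  constructor
  · intro hh
    rw [← hzy, Subgroup.mem_zpowers_iff] at hh
    obtain ⟨k, rfl⟩ := hh
    have h1 : g * (g⁻¹ * x * g) ^ k * g⁻¹ = x ^ k := by
      have : g⁻¹ * x * g = g⁻¹ * x * g⁻¹⁻¹ := by simp
      rw [this, conj_zpow]
      group
    rw [h1]
    exact Subgroup.zpow_mem _ hxP k
  · intro hh
    rw [← hzx, Subgroup.mem_zpowers_iff] at hh
    obtain ⟨k, hk⟩ := hh
    have h1 : h = (g⁻¹ * x * g) ^ k := by
      have : g⁻¹ * x * g = g⁻¹ * x * g⁻¹⁻¹ := by simp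
      rw [this, conj_zpow, hk]
      group
    rw [h1]
    exact Subgroup.zpow_mem _ hyP k

section Cycle

variable {G : Type*} [Group G] [Finite G]

/-- Cycle data for an element of prime order acting on cosets, with at most one fixed coset. -/
theorem exists_cycle_data_unique [IsSimpleGroup G] {p : ℕ} (hp : p.Prime) (H : Subgroup G) (hH : H ≠ ⊤)
    (x : G) (hx : orderOf x = p) (huniq : ∀ c d : G ⧸ H, act H x c = c → act H x d = d → c = d) :
    ∃ b : ℕ, b * p ≤ H.index ∧ H.index ≤ b * p + 1 ∧
      ∀ C : Subgroup G, C ≤ Subgroup.centralizer {x} →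
        Nat.card C ∣ (H.index - b * p).factorial * p ^ b * b.factorial := by
  classical
  haveI : Fintype (G ⧸ H) := Fintype.ofFinite _
  set σ := act H x with hσ
  have hord : orderOf σ = p := by rw [hσ, orderOf_act H hH, hx]
  obtain ⟨n, hn⟩ := Equiv.Perm.cycleType_prime_order (σ := σ) (hord ▸ hp)
  rw [hord] at hn
  have hidx : Fintype.card (G ⧸ H) = H.index := by
    rw [Subgroup.index, Nat.card_eq_fintype_card]
  have hsum : σ.cycleType.sum = (n + 1) * p := by
    rw [hn, Multiset.sum_replicate, smul_eq_mul]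
  refine ⟨n + 1, ?_, ?_, ?_⟩
  · rw [← hsum, ← hidx]
    exact Equiv.Perm.sum_cycleType_le σ
  · rw [← hsum, Equiv.Perm.sum_cycleType, ← hidx]
    have h1 : (Finset.univ.filter fun c => σ c = c).card ≤ 1 := by
      rw [Finset.card_le_one]
      intro a ha b hb
      exact huniq a b (Finset.mem_filter.1 ha).2 (Finset.mem_filter.1 hb).2
    have h2 : σ.supportᶜ = Finset.univ.filter fun c => σ c = c := by
      ext c
      simp [Equiv.Perm.mem_support]
    have h3 := Finset.card_add_card_compl σ.support
    rw [h2] at h3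
    omega
  · intro C hC
    have hinj : Function.Injective (act H) := Cfsg.Agent.Lib.SmallCen.SmallOrder.toPermHom_injective H hH
    have hle : C.map (act H) ≤ Subgroup.centralizer {σ} := by
      rintro _ ⟨c, hc, rfl⟩
      rw [Subgroup.mem_centralizer_singleton_iff]
      have h1 : c * x = x * c := by
        have := hC hc
        rw [Subgroup.mem_centralizer_singleton_iff] at this
        exact this
      rw [hσ, ← map_mul, ← map_mul, h1]
    have h2 : Nat.card (C.map (act H)) = Nat.card C := Subgroup.card_map_of_injective hinj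
    rw [← h2]
    refine (Subgroup.card_dvd_of_le hle).trans ?_
    rw [Equiv.Perm.nat_card_centralizer, hsum, hidx, hn, Multiset.prod_replicate]
    have : (Multiset.replicate (n + 1) p).toFinset = {p} := by
      ext a
      rw [Multiset.mem_toFinset, Multiset.mem_replicate, Finset.mem_singleton]
      exact ⟨fun h => h.2, fun h => ⟨by omega, h⟩⟩
    rw [this, Finset.prod_singleton, Multiset.count_replicate_self]

end Cycle

end Cfsg.Agent.Lib.SmallOrd.ClassSign
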