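import Mathlib
import Cfsg.Agent.Lib.SmallOrd.ClassSign
import Cfsg.Agent.Lib.Basic.ConjCount
import Cfsg.Agent.S0215

/-!
# Tools on involutions for eliminating orders of simple groups

* a prime order element `x`, its centralizer and the normalizer of `⟨x⟩`;
* the sign of the coset action: an involution fixes a coset of `W` when `|G : W| ≡ 2` modulo `4`;
* every group of order `16` has an abelian subgroup of order `8`, hence in a simple group of order
  `16 m`, `m` odd, every involution has a centralizer of order divisible by `8`;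
* the class `cls u` of an involution and its commuting part `Kset u`.
-/

set_option autoImplicit false
set_option linter.unusedSectionVars false

namespace Cfsg.Agent.Lib.SmallOrd.InvolTools

open Subgroup Cfsg.Agent.Lib.SmallCen.SmallOrder Cfsg.Agent.Lib.SmallOrd
open Cfsg.Agent.Lib.SmallOrd.ClassSign Cfsg.Agent.Lib.Basic.ConjCount
open scoped Pointwise

section General

variable {G : Type*} [Group G] [Finite G]

/-- Conjugation by an element of the normalizer of `⟨x⟩` is a power map on `x`. -/
theorem exists_pow_of_mem' {p : ℕ} [Fact p.Prime] (P : Sylow p G) (hP : Nat.card (P : Subgroup G) = p)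
    (x : G) (hxP : x ∈ (P : Subgroup G)) (hx : orderOf x = p) (g : G)
    (hg : g ∈ normalizer ((P : Subgroup G) : Set G)) : ∃ k < p, g * x * g⁻¹ = x ^ k := by
  classical
  have hzx : zpowers x = (P : Subgroup G) := by
    apply Subgroup.eq_of_le_of_card_ge
    · exact (Subgroup.zpowers_le).2 hxP
    · rw [Nat.card_zpowers, hx, hP]
  have h1 : g * x * g⁻¹ ∈ zpowers x := by
    rw [hzx]
    exact (mem_normalizer_iff.1 hg x).1 hxP
  rw [mem_zpowers_iff_mem_range_orderOf, hx] at h1
  obtain ⟨k, hk, hk'⟩ := Finset.mem_image.1 h1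
  exact ⟨k, Finset.mem_range.1 hk, hk'.symm⟩

/-- The centralizer of `x` is normalized by the normalizer of `⟨x⟩`. -/
theorem conj_mem_centralizer' {p : ℕ} [Fact p.Prime] (P : Sylow p G) (hP : Nat.card (P : Subgroup G) = p)
    (x : G) (hxP : x ∈ (P : Subgroup G)) (hx : orderOf x = p) (g c : G)
    (hg : g ∈ normalizer ((P : Subgroup G) : Set G)) (hc : c ∈ centralizer ({x} : Set G)) :
    g * c * g⁻¹ ∈ centralizer ({x} : Set G) := by
  rw [Subgroup.mem_centralizer_singleton_iff] at hc ⊢
  obtain ⟨k, -, hk'⟩ := exists_pow_of_mem' P hP x hxP hx g⁻¹ (inv_mem hg)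
  rw [inv_inv] at hk'
  have hck : c * x ^ k = x ^ k * c := ((Commute.pow_right (show Commute c x from hc) k)).eq
  calc g * c * g⁻¹ * x = g * c * (g⁻¹ * x * g) * g⁻¹ := by group
    _ = g * (c * x ^ k) * g⁻¹ := by rw [hk']; group
    _ = g * (x ^ k * c) * g⁻¹ := by rw [hck]
    _ = g * (g⁻¹ * x * g * c) * g⁻¹ := by rw [hk']
    _ = x * (g * c * g⁻¹) := by group

/-- The centralizer of a generator is contained in the normalizer. -/
theorem centralizer_le_normalizer' {p : ℕ} [Fact p.Prime] (P : Sylow p G)
    (hP : Nat.card (P : Subgroup G) = p)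
    (x : G) (hxP : x ∈ (P : Subgroup G)) (hx : orderOf x = p) :
    centralizer ({x} : Set G) ≤ normalizer ((P : Subgroup G) : Set G) := by
  have hzx : zpowers x = (P : Subgroup G) := by
    apply Subgroup.eq_of_le_of_card_ge
    · exact (Subgroup.zpowers_le).2 hxP
    · rw [Nat.card_zpowers, hx, hP]
  have h : centralizer ((P : Subgroup G) : Set G) = centralizer ({x} : Set G) := by
    apply le_antisymm
    · exact Subgroup.centralizer_le (Set.singleton_subset_iff.2 hxP)
    · intro c hc
      rw [Subgroup.mem_centralizer_singleton_iff] at hc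
      rw [Subgroup.mem_centralizer_iff]
      intro y hy
      rw [SetLike.mem_coe, ← hzx, Subgroup.mem_zpowers_iff] at hy
      obtain ⟨k, rfl⟩ := hy
      exact (Commute.zpow_right (show Commute c x from hc) k).eq.symm
  rw [← h]
  exact Subgroup.centralizer_le_normalizer _

/-- `|M| = |N_M(P)| k` with `k ≡ 1` modulo `p`. -/
theorem exists_card_eq_inf_mul {p : ℕ} [Fact p.Prime] (P : Sylow p G) (M : Subgroup G)
    (hPM : (P : Subgroup G) ≤ M) :
    ∃ k, Nat.card M = Nat.card (M ⊓ normalizer ((P : Subgroup G) : Set G) : Subgroup G) * k ∧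
      k % p = 1 := by
  let Q : Sylow p ↥M := P.subtype hPM
  have hQ : ((Q : Subgroup ↥M) : Set ↥M) = (((P : Subgroup G).subgroupOf M : Subgroup ↥M) : Set ↥M) := by
    rw [Sylow.coe_subtype]
  have h1 : Nat.card (Sylow p ↥M) = (Subgroup.normalizer ((Q : Subgroup ↥M) : Set ↥M)).index :=
    Q.card_eq_index_normalizer
  have h2 := card_sylow_modEq_one p ↥M
  have h3 : Subgroup.normalizer ((Q : Subgroup ↥M) : Set ↥M) =
      (M ⊓ normalizer ((P : Subgroup G) : Set G)).subgroupOf M := by
    rw [hQ, Subgroup.inf_subgroupOf_left]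
    exact (Subgroup.subgroupOf_normalizer_eq hPM).symm
  have h4 : Nat.card (Subgroup.normalizer ((Q : Subgroup ↥M) : Set ↥M)) =
      Nat.card (M ⊓ normalizer ((P : Subgroup G) : Set G) : Subgroup G) := by
    rw [h3]
    exact Nat.card_congr (Subgroup.subgroupOfEquivOfLe inf_le_left).toEquiv
  refine ⟨Nat.card (Sylow p ↥M), ?_, ?_⟩
  · rw [← h4, h1, Subgroup.card_mul_index]
  · have hp2 : 1 < p := (Fact.out : p.Prime).one_lt
    have h5 : Nat.card (Sylow p ↥M) % p = 1 % p := h2
    rwa [Nat.mod_eq_of_lt hp2] at h5

/-- Conjugate elements have centralizers of the same order. -/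
theorem card_centralizer_conj (g t : G) :
    Nat.card (centralizer ({g * t * g⁻¹} : Set G)) = Nat.card (centralizer ({t} : Set G)) := by
  have h1 := card_isConj_mul_card_centralizer t
  have h2 := card_isConj_mul_card_centralizer (g * t * g⁻¹)
  have h3 : Nat.card {y : G // IsConj t y} = Nat.card {y : G // IsConj (g * t * g⁻¹) y} := by
    refine Nat.card_congr (Equiv.subtypeEquivRight fun y => ?_)
    have h4 : IsConj t (g * t * g⁻¹) := isConj_iff.2 ⟨g, rfl⟩
    exact ⟨fun h => h4.symm.trans h, fun h => h4.trans h⟩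
  have hpos : 0 < Nat.card {y : G // IsConj t y} := Nat.card_pos_iff.2 ⟨⟨⟨t, IsConj.refl _⟩⟩, inferInstance⟩
  rw [← h3] at h2
  exact Nat.eq_of_mul_eq_mul_left hpos (h2.trans h1.symm)

theorem card_centralizer_of_isConj {s t : G} (h : IsConj s t) :
    Nat.card (centralizer ({t} : Set G)) = Nat.card (centralizer ({s} : Set G)) := by
  obtain ⟨g, rfl⟩ := isConj_iff.1 h
  exact card_centralizer_conj g s

/-- All elements of prime order `p`, with `p` exactly dividing the order, have centralizers of the same
order. -/
theorem card_centralizer_eq_of_orderOf {p : ℕ} [Fact p.Prime] (P : Sylow p G)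
    (hP : Nat.card (P : Subgroup G) = p) (x : G) (hxP : x ∈ (P : Subgroup G)) (hx : orderOf x = p)
    (y : G) (hy : orderOf y = p) :
    Nat.card (centralizer ({y} : Set G)) = Nat.card (centralizer ({x} : Set G)) := by
  have hpp : p.Prime := Fact.out
  have hQ : IsPGroup p (zpowers y) :=
    IsPGroup.of_card (n := 1) (by rw [Nat.card_zpowers, hy, pow_one])
  obtain ⟨Q, hQ'⟩ := hQ.exists_le_sylow
  obtain ⟨g, hg⟩ := MulAction.exists_smul_eq G Q P
  have hy' : g * y * g⁻¹ ∈ (P : Subgroup G) := by
    rw [← hg]
    have hyQ : y ∈ (Q : Subgroup G) := hQ' (mem_zpowers y)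
    change g * y * g⁻¹ ∈ MulAut.conj g • (Q : Subgroup G)
    exact Subgroup.smul_mem_pointwise_smul _ _ _ hyQ
  have hzx : zpowers x = (P : Subgroup G) := by
    apply Subgroup.eq_of_le_of_card_ge
    · exact (Subgroup.zpowers_le).2 hxP
    · rw [Nat.card_zpowers, hx, hP]
  have hoy : orderOf (g * y * g⁻¹) = p := by
    rw [← MulAut.conj_apply, MulEquiv.orderOf_eq, hy]
  have hzy : zpowers (g * y * g⁻¹) = (P : Subgroup G) := by
    apply Subgroup.eq_of_le_of_card_ge
    · exact (Subgroup.zpowers_le).2 hy'
    · rw [Nat.card_zpowers, hoy, hP]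
  have heq : centralizer ({g * y * g⁻¹} : Set G) = centralizer ({x} : Set G) := by
    have key : ∀ a b : G, b ∈ zpowers a → centralizer ({a} : Set G) ≤ centralizer ({b} : Set G) := by
      intro a b hb c hc
      rw [Subgroup.mem_zpowers_iff] at hb
      obtain ⟨k, rfl⟩ := hb
      rw [Subgroup.mem_centralizer_singleton_iff] at hc ⊢
      exact (Commute.zpow_right (show Commute c a from hc) k).eq
    apply le_antisymm
    · apply key
      rw [hzy, ← hzx]
      exact mem_zpowers x
    · apply key
      rw [hzx, ← hzy]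
      exact mem_zpowers _
  rw [← heq, card_centralizer_conj]

/-- The sign of the coset action: an involution fixes a coset of `W` if `|G : W| ≡ 2` modulo `4`. -/
theorem exists_conj_mem_of_index [IsSimpleGroup G] (h2 : 2 < Nat.card G) (W : Subgroup G)
    (hW : W.index % 4 = 2) (t : G) (ht : t * t = 1) : ∃ g : G, g⁻¹ * t * g ∈ W := by
  classical
  haveI : Fintype (G ⧸ W) := Fintype.ofFinite _
  set σ := act W t with hσ
  have hσ2 : σ * σ = 1 := by rw [hσ, ← map_mul, ht, map_one]
  have hsign := sign_act_eq_one h2 W t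
  have h4 := four_dvd_card_support σ hσ2 hsign
  have hidx : Fintype.card (G ⧸ W) = W.index := by
    rw [Subgroup.index, Nat.card_eq_fintype_card]
  by_contra hno
  push_neg at hno
  have hall : ∀ c : G ⧸ W, σ c ≠ c := by
    intro c hc
    obtain ⟨g, hg⟩ := exists_conj_mem_of_fixed W t c hc
    exact hno g hg
  have hsup : σ.support = Finset.univ := by
    ext c
    simp only [Equiv.Perm.mem_support, Finset.mem_univ, iff_true]
    exact hall c
  rw [hsup, Finset.card_univ, hidx] at h4
  omega

/-- A group of order `8` with three distinct elements of the center, including the identity, is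
abelian. -/
theorem comm_of_card_eight {W : Type*} [Group W] (h : Nat.card W = 8) (a b : W) (ha : a ∈ center W)
    (hb : b ∈ center W) (h1 : a ≠ 1) (h2 : b ≠ 1) (h3 : a ≠ b) (x y : W) : x * y = y * x := by
  classical
  haveI : Finite W := Nat.finite_of_card_ne_zero (by omega)
  haveI : Fintype W := Fintype.ofFinite W
  have hZ3 : 3 ≤ Nat.card (center W) := by
    have h4 : ({1, a, b} : Finset W) ⊆ Finset.univ.filter (· ∈ center W) := by
      intro c hc
      simp only [Finset.mem_insert, Finset.mem_singleton] at hc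
      simp only [Finset.mem_filter, Finset.mem_univ, true_and]
      rcases hc with rfl | rfl | rfl
      · exact (center W).one_mem
      · exact ha
      · exact hb
    have h5 := Finset.card_le_card h4
    have h6 : ({1, a, b} : Finset W).card = 3 := by
      rw [Finset.card_eq_three]
      exact ⟨1, a, b, h1.symm, h2.symm, h3, rfl⟩
    have h7 : (Finset.univ.filter (· ∈ center W)).card = Nat.card (center W) := by
      rw [Nat.card_eq_fintype_card, Fintype.card_subtype]
    omega
  have hdvd : Nat.card (center W) * (center W).index = 8 := by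
    rw [Subgroup.card_mul_index, h]
  have hcyc : IsCyclic (W ⧸ center W) := by
    have hidx : (center W).index = 1 ∨ (center W).index = 2 := by
      have hle : (center W).index ≤ 2 := by
        by_contra hcon
        push_neg at hcon
        nlinarith
      have hpos : (center W).index ≠ 0 := by
        intro h0
        rw [h0] at hdvd
        omega
      omega
    rcases hidx with h1' | h2'
    · haveI : Subsingleton (W ⧸ center W) := by
        have : Nat.card (W ⧸ center W) = 1 := h1'
        exact (Nat.card_eq_one_iff_unique.1 this).1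
      exact isCyclic_of_subsingleton
    · have : Nat.card (W ⧸ center W) = 2 := h2'
      exact isCyclic_of_prime_card this
  have hker : (QuotientGroup.mk' (center W)).ker ≤ center W := by
    rw [QuotientGroup.ker_mk']
  exact (MonoidHom.isMulCommutative_of_isCyclic_of_ker_le_center _ hker).is_comm.comm x y

/-- Every group of order `16` has an abelian subgroup of order `8`. -/
theorem exists_comm_card_eight {S : Type*} [Group S] (h : Nat.card S = 16) :
    ∃ W : Subgroup S, Nat.card W = 8 ∧ ∀ a ∈ W, ∀ b ∈ W, a * b = b * a := by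
  classical
  haveI : Finite S := Nat.finite_of_card_ne_zero (by omega)
  haveI : Fact (Nat.Prime 2) := ⟨Nat.prime_two⟩
  by_cases hcomm : ∀ a b : S, a * b = b * a
  · obtain ⟨W, hW⟩ := Sylow.exists_subgroup_card_pow_prime (G := S) 2 (n := 3) (by rw [h]; norm_num)
    exact ⟨W, by rw [hW]; norm_num, fun a _ b _ => hcomm a b⟩
  push_neg at hcomm
  have hpg : IsPGroup 2 S := IsPGroup.of_card (n := 4) (by rw [h]; norm_num)
  haveI : Nontrivial S := by
    apply Finite.one_lt_card_iff_nontrivial.1
    omega
  haveI : Nontrivial (center S) := hpg.center_nontrivial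
  obtain ⟨⟨z, hz⟩, hz1⟩ := exists_ne (1 : center S)
  have hz1' : z ≠ 1 := fun h0 => hz1 (Subtype.ext h0)
  -- some noncentral element has a centralizer of order `8`
  obtain ⟨a, haZ, haC⟩ : ∃ a : S, a ∉ center S ∧ Nat.card (centralizer ({a} : Set S)) = 8 := by
    by_contra hno
    push_neg at hno
    haveI : Fintype S := Fintype.ofFinite S
    have hsum := Group.card_center_add_sum_card_noncenter_eq_card S
    have hcdvd : ∀ a : S, Nat.card (centralizer ({a} : Set S)) ∣ 16 := by
      intro a
      rw [← h]
      exact Subgroup.card_subgroup_dvd_card _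
    have hnot16 : ∀ a : S, a ∉ center S → Nat.card (centralizer ({a} : Set S)) ≠ 16 := by
      intro a ha h16
      apply ha
      have htop : centralizer ({a} : Set S) = ⊤ := by
        apply Subgroup.eq_top_of_card_eq
        rw [h16, h]
      rw [Subgroup.mem_center_iff]
      intro g
      have : g ∈ centralizer ({a} : Set S) := by rw [htop]; trivial
      rwa [Subgroup.mem_centralizer_singleton_iff] at this
    have hterm : ∀ x ∈ (ConjClasses.noncenter S).toFinset, 4 ∣ x.carrier.toFinset.card := by
      intro x hx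
      obtain ⟨a, rfl⟩ := ConjClasses.mk_surjective x
      have hx' : (ConjClasses.mk a).carrier.Nontrivial := by
        simpa [ConjClasses.mem_noncenter] using hx
      have haZ : a ∉ center S := by
        intro ha
        obtain ⟨b, hb, c, hc, hbc⟩ := hx'
        apply hbc
        have key : ∀ d, d ∈ (ConjClasses.mk a).carrier → d = a := by
          intro d hd
          rw [ConjClasses.mem_carrier_iff_mk_eq, ConjClasses.mk_eq_mk_iff_isConj] at hd
          exact (isConj_iff.1 hd.symm).elim fun g hg => by
            rw [← hg, Subgroup.mem_center_iff.1 ha g]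
            group
        rw [key b hb, key c hc]
      have h1 := card_isConj_mul_card_centralizer a
      have h2 : (ConjClasses.mk a).carrier.toFinset.card = Nat.card {y : S // IsConj a y} := by
        rw [Nat.subtype_card ((ConjClasses.mk a).carrier.toFinset)]
        intro y
        rw [Set.mem_toFinset, ConjClasses.mem_carrier_iff_mk_eq, ConjClasses.mk_eq_mk_iff_isConj]
        exact isConj_comm
      rw [h2]
      rw [h] at h1
      have h3 := hcdvd a
      have h4 := hno a haZ
      have h5 := hnot16 a haZ
      have key : ∀ d ∈ (16 : ℕ).divisors, d ≠ 8 → d ≠ 16 → d = 1 ∨ d = 2 ∨ d = 4 := by decide +kernel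
      rcases key _ (Nat.mem_divisors.2 ⟨h3, by norm_num⟩) h4 h5 with h6 | h6 | h6 <;> rw [h6] at h1 <;>
        omega
    have hdv := Finset.dvd_sum hterm
    have hZ4 : 4 ∣ Nat.card (center S) := by
      rw [Nat.card_eq_fintype_card]
      rw [← Nat.card_eq_fintype_card (α := S), h] at hsum
      omega
    obtain ⟨a, b, hab⟩ := hcomm
    have haZ : a ∉ center S := by
      intro ha
      exact hab ((Subgroup.mem_center_iff.1 ha b).symm)
    have hZle : center S ≤ centralizer ({a} : Set S) := by
      intro c hc
      rw [Subgroup.mem_centralizer_singleton_iff]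
      exact (Subgroup.mem_center_iff.1 hc a).symm
    have hZpos : 2 ≤ Nat.card (center S) := by
      have : 1 < Nat.card (center S) := Finite.one_lt_card_iff_nontrivial.2 inferInstance
      omega
    have hdZ : Nat.card (center S) ∣ Nat.card (centralizer ({a} : Set S)) :=
      Subgroup.card_dvd_of_le hZle
    have hlt : Nat.card (center S) < Nat.card (centralizer ({a} : Set S)) := by
      refine lt_of_le_of_ne (Nat.le_of_dvd Nat.card_pos hdZ) ?_
      intro he
      apply haZ
      rw [Subgroup.eq_of_le_of_card_ge hZle he.ge, Subgroup.mem_centralizer_singleton_iff]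
    have h3 := hcdvd a
    have h4 := hno a haZ
    have h5 := hnot16 a haZ
    have key : ∀ d ∈ (16 : ℕ).divisors, d ≠ 8 → d ≠ 16 → d = 1 ∨ d = 2 ∨ d = 4 := by decide +kernel
    have h6 := key _ (Nat.mem_divisors.2 ⟨h3, by norm_num⟩) h4 h5
    have h7 : 4 ≤ Nat.card (center S) := Nat.le_of_dvd (by omega) hZ4
    omega
  refine ⟨centralizer ({a} : Set S), haC, ?_⟩
  intro x hx y hy
  have haC' : a ∈ centralizer ({a} : Set S) := by
    rw [Subgroup.mem_centralizer_singleton_iff]
  have hzC : z ∈ centralizer ({a} : Set S) := by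
    rw [Subgroup.mem_centralizer_singleton_iff]
    exact (Subgroup.mem_center_iff.1 hz a).symm
  have h1 : (⟨a, haC'⟩ : ↥(centralizer ({a} : Set S))) ∈ center ↥(centralizer ({a} : Set S)) := by
    rw [Subgroup.mem_center_iff]
    intro d
    apply Subtype.ext
    have := d.2
    rw [Subgroup.mem_centralizer_singleton_iff] at this
    exact this
  have h2 : (⟨z, hzC⟩ : ↥(centralizer ({a} : Set S))) ∈ center ↥(centralizer ({a} : Set S)) := by
    rw [Subgroup.mem_center_iff]
    intro d
    apply Subtype.ext
    exact Subgroup.mem_center_iff.1 hz d.1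
  have h3 := comm_of_card_eight haC _ _ h1 h2
    (fun h0 => haZ (by
      have : a = 1 := congrArg Subtype.val h0
      rw [this]
      exact (center S).one_mem))
    (fun h0 => hz1' (congrArg Subtype.val h0))
    (fun h0 => haZ (by
      have : a = z := congrArg Subtype.val h0
      rw [this]
      exact hz)) ⟨x, hx⟩ ⟨y, hy⟩
  exact congrArg Subtype.val h3

/-- In a simple group of order `16 m`, `m` odd, every involution has a centralizer of order divisible
by `8`: it is conjugate into an abelian subgroup of order `8`. -/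
theorem eight_dvd_card_centralizer [IsSimpleGroup G] {m : ℕ} (h : Nat.card G = 16 * m) (hm : Odd m)
    (h2 : 2 < Nat.card G) (t : G) (ht : t * t = 1) :
    8 ∣ Nat.card (centralizer ({t} : Set G)) := by
  haveI : Fact (Nat.Prime 2) := ⟨Nat.prime_two⟩
  obtain ⟨S⟩ : Nonempty (Sylow 2 G) := inferInstance
  have hS : Nat.card (S : Subgroup G) = 16 := by
    have := card_sylow_eq (p := 2) (a := 4) (m := m) (by rw [h]; norm_num) (by
      rw [← even_iff_two_dvd, Nat.not_even_iff_odd]
      exact hm) S
    rw [this]
    norm_num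
  obtain ⟨W', hW', hWc⟩ := exists_comm_card_eight hS
  let W : Subgroup G := W'.map (S : Subgroup G).subtype
  have hWcard : Nat.card W = 8 := by
    rw [Subgroup.card_map_of_injective (S : Subgroup G).subtype_injective, hW']
  have hidx : W.index = 2 * m := by
    have h3 := Subgroup.card_mul_index W
    rw [hWcard, h] at h3
    omega
  have hidx4 : W.index % 4 = 2 := by
    obtain ⟨k, hk⟩ := hm
    rw [hidx, hk]
    omega
  obtain ⟨g, hg⟩ := exists_conj_mem_of_index h2 W hidx4 t ht
  have hle : W ≤ centralizer ({g⁻¹ * t * g} : Set G) := by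
    intro c hc
    rw [Subgroup.mem_centralizer_singleton_iff]
    obtain ⟨c', hc', rfl⟩ := hc
    obtain ⟨d, hd, hdg⟩ := hg
    rw [← hdg]
    exact congrArg Subtype.val (hWc _ hc' _ hd)
  have h3 := Subgroup.card_dvd_of_le hle
  rw [hWcard] at h3
  have h4 := card_centralizer_conj g⁻¹ t
  rw [inv_inv] at h4
  rwa [h4] at h3

/-- The conjugacy class of `u`. -/
noncomputable def cls (u : G) : Finset G := (Set.toFinite {v | IsConj u v}).toFinset

/-- The elements of the class of `u` commuting with `u`. -/
noncomputable def Kset (u : G) : Finset G := (Set.toFinite {v | IsConj u v ∧ u * v = v * u}).toFinset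

theorem mem_cls (u v : G) : v ∈ cls u ↔ IsConj u v := by
  simp [cls]

theorem mem_Kset (u v : G) : v ∈ Kset u ↔ IsConj u v ∧ u * v = v * u := by
  simp [Kset]

theorem card_cls_mul (u : G) : (cls u).card * Nat.card (centralizer ({u} : Set G)) = Nat.card G := by
  rw [← card_isConj_mul_card_centralizer u]
  congr 1
  rw [Nat.subtype_card (cls u) (fun v => mem_cls u v)]

theorem iter_conj (x : G) (n : ℕ) (v : G) :
    (fun v => x * v * x⁻¹)^[n] v = x ^ n * v * (x ^ n)⁻¹ := by
  induction n with
  | zero => simp
  | succ n ih =>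
    rw [Function.iterate_succ_apply', ih, pow_succ']
    group

/-- Congruences for the commuting part of the class of an involution. -/
theorem Kset_congr [IsSimpleGroup G] (h2 : 2 < Nat.card G) (x u : G) {p : ℕ} (hp : p.Prime)
    (hx : orderOf x = p) (hu2 : u * u = 1) (hu1 : u ≠ 1) (hxu : x * u = u * x)
    (hMtop : centralizer ({u} : Set G) ≠ ⊤) (hCu : ∀ v, v * x = x * v → IsConj u v → v = u) :
    (Kset u).card % 4 = (cls u).card % 4 ∧ (Kset u).card % p = 1 % p ∧
      (Kset u).card < (cls u).card := by
  classical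
  have hinv : ∀ g : G, ∀ v ∈ cls u, g * v * g⁻¹ ∈ cls u := by
    intro g v hv
    rw [mem_cls] at hv ⊢
    exact hv.trans (isConj_iff.2 ⟨g, rfl⟩)
  have h4 := card_comm_modEq_four h2 (cls u) hinv u hu2
  have hKeq : Kset u = (cls u).filter fun v => u * v = v * u := by
    ext v
    simp [mem_Kset, mem_cls]
  rw [← hKeq] at h4
  have hxinv : x⁻¹ * u = u * x⁻¹ := by
    calc x⁻¹ * u = x⁻¹ * (u * x) * x⁻¹ := by group
      _ = x⁻¹ * (x * u) * x⁻¹ := by rw [hxu]
      _ = u * x⁻¹ := by group
  have h5 := card_modEq_fixed (Kset u) (fun v => x * v * x⁻¹) (by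
      intro v hv
      rw [mem_Kset] at hv ⊢
      refine ⟨hv.1.trans (isConj_iff.2 ⟨x, rfl⟩), ?_⟩
      calc u * (x * v * x⁻¹) = (u * x) * v * x⁻¹ := by group
        _ = x * (u * v) * x⁻¹ := by rw [← hxu]; group
        _ = x * (v * u) * x⁻¹ := by rw [hv.2]
        _ = x * v * (u * x⁻¹) := by group
        _ = x * v * (x⁻¹ * u) := by rw [hxinv]
        _ = _ := by group) hp (by
      intro v _
      rw [iter_conj, ← hx, pow_orderOf_eq_one]
      simp)
  have hfix : ((Kset u).filter fun a => x * a * x⁻¹ = a) = {u} := by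
    ext v
    simp only [Finset.mem_filter, mem_Kset, Finset.mem_singleton]
    constructor
    · rintro ⟨⟨hv1, -⟩, hv2⟩
      apply hCu v _ hv1
      calc v * x = x * v * x⁻¹ * x := by rw [hv2]
        _ = x * v := by group
    · rintro rfl
      refine ⟨⟨IsConj.refl _, rfl⟩, ?_⟩
      rw [hxu]
      group
  rw [hfix, Finset.card_singleton] at h5
  refine ⟨h4, h5, ?_⟩
  apply Finset.card_lt_card
  rw [Finset.ssubset_iff_of_subset]
  · by_contra hcon
    push_neg at hcon
    have hcomm : ∀ v, IsConj u v → u * v = v * u := by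
      intro v hv
      have := hcon v ((mem_cls u v).2 hv)
      exact ((mem_Kset u v).1 this).2
    have hle : normalClosure ({u} : Set G) ≤ centralizer ({u} : Set G) := by
      rw [normalClosure, closure_le]
      intro v hv
      rw [Group.mem_conjugatesOfSet_iff] at hv
      obtain ⟨a, ha, hav⟩ := hv
      rw [Set.mem_singleton_iff] at ha
      subst ha
      change v ∈ centralizer ({a} : Set G)
      rw [Subgroup.mem_centralizer_singleton_iff]
      exact (hcomm v hav).symm
    have hne : normalClosure ({u} : Set G) ≠ ⊥ := by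
      intro hbot
      have : u ∈ normalClosure ({u} : Set G) :=
        Subgroup.subset_normalClosure (Set.mem_singleton u)
      rw [hbot] at this
      exact hu1 (Subgroup.mem_bot.1 this)
    rcases (inferInstance : (normalClosure ({u} : Set G)).Normal).eq_bot_or_eq_top with h0 | h0
    · exact hne h0
    · rw [h0] at hle
      exact hMtop (top_le_iff.1 hle)
  · intro v hv
    rw [mem_Kset] at hv
    rw [mem_cls]
    exact hv.1

/-- The centralizer of a nonidentity element of a nonabelian simple group is proper. -/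
theorem centralizer_ne_top [IsSimpleGroup G] (hnp : ¬ (Nat.card G).Prime) (u : G) (hu1 : u ≠ 1) :
    centralizer ({u} : Set G) ≠ ⊤ := by
  intro htop
  have hu : u ∈ center G := by
    rw [Subgroup.mem_center_iff]
    intro g
    have : g ∈ centralizer ({u} : Set G) := by rw [htop]; trivial
    rwa [Subgroup.mem_centralizer_singleton_iff] at this
  rcases (inferInstance : (center G).Normal).eq_bot_or_eq_top with h0 | h0
  · rw [h0] at hu
    exact hu1 ((Subgroup.mem_bot).1 hu)
  · have hcomm : ∀ a b : G, a * b = b * a := by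
      intro a b
      have : a ∈ center G := by rw [h0]; trivial
      exact (Subgroup.mem_center_iff.1 this b).symm
    letI : CommGroup G := { (inferInstance : Group G) with mul_comm := hcomm }
    exact hnp IsSimpleGroup.prime_card

/-- A bound on the number of involutions in the centralizer of an element of odd prime order. -/
theorem card_mul_le_of_involutions {p : ℕ} (hp : Odd p) (x : G) (hx : orderOf x = p) (F : Finset G)
    (hF : ∀ w ∈ F, w * w = 1 ∧ w * x = x * w) :
    p * F.card ≤ Nat.card (centralizer ({x} : Set G)) := by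
  classical
  haveI : Fintype G := Fintype.ofFinite G
  have hCf : (Finset.univ.filter (· ∈ centralizer ({x} : Set G))).card =
      Nat.card (centralizer ({x} : Set G)) := by
    rw [Nat.card_eq_fintype_card, Fintype.card_subtype]
  rw [← hCf, mul_comm, ← Finset.card_range p, ← Finset.card_product]
  apply Finset.card_le_card_of_injOn (fun a => a.1 * x ^ a.2)
  · rintro ⟨w, i⟩ hw
    simp only [Finset.coe_product, Set.mem_prod, Finset.mem_coe] at hw
    simp only [Finset.coe_filter, Finset.mem_univ, true_and, Set.mem_ofPred_eq]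
    rw [Subgroup.mem_centralizer_singleton_iff]
    have h1 := (hF w hw.1).2
    calc w * x ^ i * x = w * (x ^ i * x) := by group
      _ = w * (x * x ^ i) := by rw [← pow_succ, ← pow_succ']
      _ = (w * x) * x ^ i := by group
      _ = (x * w) * x ^ i := by rw [h1]
      _ = x * (w * x ^ i) := by group
  · rintro ⟨w, i⟩ hw ⟨w', j⟩ hw' hij
    simp only [Finset.coe_product, Set.mem_prod, Finset.mem_coe, Finset.coe_range, Set.mem_Iio] at hw hw'
    simp only at hij
    obtain ⟨h1, h2⟩ := hF w hw.1
    obtain ⟨h1', h2'⟩ := hF w' hw'.1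
    have hxp : x ^ p = 1 := by rw [← hx]; exact pow_orderOf_eq_one x
    have key : ∀ (w : G) (i : ℕ), w * w = 1 → w * x = x * w → (w * x ^ i) ^ p = w := by
      intro w i h1 h2
      have hc : Commute w (x ^ i) := Commute.pow_right (show Commute w x from h2) i
      rw [hc.mul_pow, ← pow_mul, mul_comm i p, pow_mul, hxp, one_pow, mul_one]
      obtain ⟨k, hk⟩ := hp
      rw [hk, pow_succ, pow_mul, pow_two, h1, one_pow, one_mul]
    have hww : w = w' := by
      rw [← key w i h1 h2, ← key w' j h1' h2', hij]
    subst hww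
    have hxx : x ^ i = x ^ j := mul_left_cancel hij
    have hinj := pow_injOn_Iio_orderOf (x := x)
    rw [hx] at hinj
    have hij' : i = j := hinj (by simpa using hw.2) (by simpa using hw'.2) hxx
    rw [hij']

/-- A Sylow `2`-subgroup through an involution, centralizing it. -/
theorem exists_sylow_le_centralizer {a m : ℕ} (hG : Nat.card G = 2 ^ a * m) (hm : ¬ 2 ∣ m) (u : G)
    (hu : u * u = 1) (hu1 : u ≠ 1) (hdvd : 2 ^ a ∣ Nat.card (centralizer ({u} : Set G))) :
    ∃ P : Sylow 2 G, u ∈ (P : Subgroup G) ∧ (P : Subgroup G) ≤ centralizer ({u} : Set G) := by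
  classical
  haveI : Fact (Nat.Prime 2) := ⟨Nat.prime_two⟩
  set C := centralizer ({u} : Set G) with hC
  have huC : u ∈ C := by
    rw [hC, Subgroup.mem_centralizer_singleton_iff]
  have hord : orderOf u = 2 := orderOf_eq_prime (by rw [pow_two]; exact hu) hu1
  have hQ : IsPGroup 2 (zpowers (⟨u, huC⟩ : ↥C)) := by
    apply IsPGroup.of_card (n := 1)
    rw [Nat.card_zpowers, pow_one, Subgroup.orderOf_mk, hord]
  obtain ⟨R, hR⟩ := hQ.exists_le_sylow
  obtain ⟨m', hm'⟩ := hdvd
  have hm0 : m ≠ 0 := by
    rintro rfl
    exact hm (dvd_zero 2)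
  have hCd : Nat.card C ∣ Nat.card G := Subgroup.card_subgroup_dvd_card C
  have hm'd : m' ∣ m := by
    rw [hm', hG] at hCd
    exact Nat.dvd_of_mul_dvd_mul_left (by positivity) hCd
  have hRc : Nat.card (R : Subgroup ↥C) = 2 ^ a :=
    card_sylow_eq hm' (fun h => hm (h.trans hm'd)) R
  let P' : Subgroup G := (R : Subgroup ↥C).map C.subtype
  have hP'c : Nat.card P' = 2 ^ a := by
    rw [Subgroup.card_map_of_injective C.subtype_injective, hRc]
  have hfac : (Nat.card G).factorization 2 = a := by
    rw [hG, Nat.factorization_mul (pow_ne_zero _ (by norm_num)) hm0,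
      Finsupp.add_apply, Nat.Prime.factorization_pow Nat.prime_two, Finsupp.single_eq_same,
      Nat.factorization_eq_zero_of_not_dvd hm, add_zero]
  refine ⟨Sylow.ofCard P' (by rw [hP'c, hfac]), ?_, ?_⟩
  · rw [Sylow.coe_ofCard]
    exact ⟨⟨u, huC⟩, hR (mem_zpowers _), rfl⟩
  · rw [Sylow.coe_ofCard]
    exact Subgroup.map_subtype_le _

/-- The Z*-theorem in a simple group. -/
theorem false_of_Kset_card_one [IsSimpleGroup G] (hnp : ¬ (Nat.card G).Prime) (heven : 2 ∣ Nat.card G) (u : G)
    (hu2 : u * u = 1) (hu1 : u ≠ 1) (P : Sylow 2 G) (huP : u ∈ (P : Subgroup G))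
    (hP : (P : Subgroup G) ≤ centralizer ({u} : Set G)) (hK : (Kset u).card = 1) : False := by
  classical
  have hord : orderOf u = 2 := orderOf_eq_prime (by rw [pow_two]; exact hu2) hu1
  have huK : u ∈ Kset u := (mem_Kset u u).2 ⟨IsConj.refl _, rfl⟩
  have hKu : Kset u = {u} := by
    rw [Finset.card_eq_one] at hK
    obtain ⟨a, ha⟩ := hK
    rw [ha] at huK ⊢
    rw [Finset.mem_singleton] at huK
    rw [huK]
  obtain ⟨N, hN, hNodd, hNg⟩ := Cfsg.Agent.S0215.result P u hord huP (by
    intro g hg
    have h1 : g * u * g⁻¹ ∈ Kset u := by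
      rw [mem_Kset]
      refine ⟨isConj_iff.2 ⟨g, rfl⟩, ?_⟩
      have := hP hg
      rw [Subgroup.mem_centralizer_singleton_iff] at this
      exact this.symm
    rw [hKu, Finset.mem_singleton] at h1
    exact h1)
  rcases hN.eq_bot_or_eq_top with h0 | h0
  · apply centralizer_ne_top hnp u hu1
    rw [eq_top_iff]
    intro g _
    rw [Subgroup.mem_centralizer_singleton_iff]
    have h1 := hNg g
    rw [h0, Subgroup.mem_bot] at h1
    have h3 : u * g * u⁻¹ = g := by
      rw [mul_inv_eq_one] at h1
      exact h1
    calc g * u = u * g * u⁻¹ * u := by rw [h3]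
      _ = u * g := by group
  · rw [h0, Subgroup.card_top] at hNodd
    exact (Nat.not_even_iff_odd.2 hNodd) (even_iff_two_dvd.2 heven)

/-- A subgroup and a coset of it. -/
theorem exists_subgroup_union (A : Subgroup G) (b : G) (hb : b ∉ A)
    (hn : ∀ α ∈ A, b * α * b⁻¹ ∈ A) (hb2 : b * b ∈ A) :
    ∃ W : Subgroup G, Nat.card W = 2 * Nat.card A ∧ ∀ g ∈ W, g ∈ A ∨ ∃ α ∈ A, g = b * α := by
  classical
  haveI : Fintype G := Fintype.ofFinite G
  have hn' : ∀ α ∈ A, b⁻¹ * α * b ∈ A := by
    have hle : A.map (MulAut.conj b).toMonoidHom ≤ A := by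
      rintro _ ⟨α, hα, rfl⟩
      exact hn α hα
    have heq : A.map (MulAut.conj b).toMonoidHom = A :=
      Subgroup.eq_of_le_of_card_ge hle (by
        rw [Subgroup.card_map_of_injective (MulAut.conj b).injective])
    intro α hα
    rw [← heq] at hα
    obtain ⟨β, hβ, rfl⟩ := hα
    simpa [mul_assoc] using hβ
  have hbi : b⁻¹ * b⁻¹ ∈ A := by
    have := A.inv_mem hb2
    simpa [mul_inv_rev] using this
  let W : Subgroup G :=
    { carrier := {g | g ∈ A ∨ b⁻¹ * g ∈ A}
      mul_mem' := by
        rintro g h (hg | hg) (hh | hh)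
        · exact Or.inl (A.mul_mem hg hh)
        · right
          have h1 := A.mul_mem (hn' g hg) hh
          have h2 : b⁻¹ * g * b * (b⁻¹ * h) = b⁻¹ * (g * h) := by group
          rwa [h2] at h1
        · right
          have h1 := A.mul_mem hg hh
          rwa [mul_assoc] at h1
        · left
          have h1 := A.mul_mem (A.mul_mem hb2 (hn' _ hg)) hh
          have h2 : b * b * (b⁻¹ * (b⁻¹ * g) * b) * (b⁻¹ * h) = g * h := by group
          rwa [h2] at h1
      one_mem' := Or.inl A.one_mem
      inv_mem' := by
        rintro g (hg | hg)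
        · exact Or.inl (A.inv_mem hg)
        · right
          have h1 := A.mul_mem (hn' _ (A.inv_mem hg)) hbi
          have h2 : b⁻¹ * (b⁻¹ * g)⁻¹ * b * (b⁻¹ * b⁻¹) = b⁻¹ * g⁻¹ := by group
          rwa [h2] at h1 }
  refine ⟨W, ?_, ?_⟩
  · let Af : Finset G := Finset.univ.filter (· ∈ A)
    have hAf : Af.card = Nat.card A := by
      rw [Nat.card_eq_fintype_card, Fintype.card_subtype]
    have hWf : (Finset.univ.filter (· ∈ W)).card = Nat.card W := by
      rw [Nat.card_eq_fintype_card, Fintype.card_subtype]
    have hun : Finset.univ.filter (· ∈ W) = Af ∪ Af.image (b * ·) := by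
      ext g
      simp only [Finset.mem_filter, Finset.mem_univ, true_and, Finset.mem_union, Finset.mem_image, Af]
      constructor
      · rintro (hg | hg)
        · exact Or.inl hg
        · exact Or.inr ⟨_, hg, by group⟩
      · rintro (hg | ⟨α, hα, rfl⟩)
        · exact Or.inl hg
        · right
          simpa using hα
    have hdis : Disjoint Af (Af.image (b * ·)) := by
      rw [Finset.disjoint_left]
      intro g hg hg'
      simp only [Finset.mem_image, Af, Finset.mem_filter, Finset.mem_univ, true_and] at hg hg'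
      obtain ⟨α, hα, rfl⟩ := hg'
      apply hb
      have := A.mul_mem hg (A.inv_mem hα)
      simpa using this
    rw [← hWf, hun, Finset.card_union_of_disjoint hdis,
      Finset.card_image_of_injective _ (mul_right_injective b), hAf]
    ring
  · rintro g (hg | hg)
    · exact Or.inl hg
    · exact Or.inr ⟨_, hg, by group⟩

theorem mul_mem_of_relIndex_two {V T : Subgroup G} (hidx : V.relIndex T = 2) {a b : G} (ha : a ∈ T)
    (hb : b ∈ T) (haV : a ∉ V) (hbV : b ∉ V) : a * b ∈ V := by
  have hidx' : (V.subgroupOf T).index = 2 := hidx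
  have h1 := Subgroup.mul_mem_iff_of_index_two hidx' (a := ⟨a, ha⟩) (b := ⟨b, hb⟩)
  have h2 : (⟨a, ha⟩ * ⟨b, hb⟩ : ↥T) ∈ V.subgroupOf T :=
    h1.2 (iff_of_false (by rwa [Subgroup.mem_subgroupOf]) (by rwa [Subgroup.mem_subgroupOf]))
  exact Subgroup.mem_subgroupOf.1 h2

end General

end Cfsg.Agent.Lib.SmallOrd.InvolTools
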